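/-
Extension of line bundles from big opens descends.
-/
import Groth.Agent.S1691
import Groth.Agent.S11133
import Groth.Agent.L00.PullStalk
import Groth.Agent.L18.LocFreeFP
import Groth.Agent.L18.LocFreeTilde
import Groth.Agent.L16.Existence.Vanishing
import Groth.Agent.L24.SB.Tower
import Groth.Agent.L20.SeeNormal.IdealPts
import Groth.Agent.L15.Ref.FreeLocus
import Groth.Agent.L16.ProperFinite
import Groth.Agent.L04.FinLocFreeHom
import Groth.Agent.L14.ParaF.FinLoc
import Groth.Agent.L18.AmplePull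

/-!
# Line bundles on big opens of locally Noetherian schemes

The direct image of a line bundle is coherent, commutes with flat base change, and its invertibility descends.
-/

set_option autoImplicit false
set_option linter.style.haveILetI false
set_option backward.isDefEq.respectTransparency.types false

universe u

open CategoryTheory CategoryTheory.Limits AlgebraicGeometry TopologicalSpace

noncomputable section

namespace Groth.Agent.BigOpen

open Groth.L14.ParaF

/-- Flatness of a coherent module descends along flat surjective morphisms. -/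
theorem isFinLocFree_descend {X' X : Scheme.{u}} [IsLocallyNoetherian X] (f : X' ⟶ X) [Flat f] [Surjective f]
    {M : X.Modules} (hM : CohB1.IsFP M) (h : FlatMod.IsFinLocFree ((Scheme.Modules.pullback f).obj M)) :
    FlatMod.IsFinLocFree M := by
  refine Groth.L18.LFP.isFinLocFree_of_isFlat_of_isFP M (fun y => ?_) hM
  obtain ⟨x, rfl⟩ := f.surjective y
  letI : Algebra (X.presheaf.stalk (f x)) (X'.presheaf.stalk x) := (f.stalkMap x).hom.toAlgebra
  haveI : IsLocalHom (algebraMap (X.presheaf.stalk (f x)) (X'.presheaf.stalk x)) :=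
    inferInstanceAs (IsLocalHom (f.stalkMap x).hom)
  haveI : Module.Flat (X.presheaf.stalk (f x)) (X'.presheaf.stalk x) := Flat.stalkMap f x
  haveI : Module.FaithfullyFlat (X.presheaf.stalk (f x)) (X'.presheaf.stalk x) :=
    Module.FaithfullyFlat.of_flat_of_isLocalHom
  let e : ((Scheme.Modules.pullback f).obj M).presheaf.stalk x ≃ₗ[X'.presheaf.stalk x]
      TensorProduct (X.presheaf.stalk (f x)) (X'.presheaf.stalk x) (M.presheaf.stalk (f x)) :=
    ((Groth.L00.PullStalk.stalkIso f x).app M).toLinearEquiv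
  haveI := Groth.L18.LFP.free_stalk _ h x
  haveI := Module.Free.of_equiv e
  exact (Module.Flat.iff_flat_tensorProduct (R := X.presheaf.stalk (f x)) (M := M.presheaf.stalk (f x))
    (X'.presheaf.stalk x)).1 inferInstance

/-- A line bundle on a big open extends as soon as its pullback does. -/
theorem extends_iff {X X' : Scheme.{u}}
    [IsLocallyNoetherian X] [IsLocallyNoetherian X'] (φ : X' ⟶ X) [Flat φ] [Surjective φ]
    (V : X.Opens) (hV : ∀ x : X, x ∉ V → 2 ≤ LocCoh.depth (X.presheaf.stalk x) (X.presheaf.stalk x))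
    (L : (V : Scheme.{u}).Modules) (hL : PicF.IsInvertible L) :
    (∃ M : X.Modules, PicF.IsInvertible M ∧ Nonempty ((Scheme.Modules.pullback V.ι).obj M ≅ L)) ↔
      (∃ M' : X'.Modules, PicF.IsInvertible M' ∧
        Nonempty ((Scheme.Modules.pullback (φ ⁻¹ᵁ V).ι).obj M' ≅ (Scheme.Modules.pullback (φ ∣_ V)).obj L)) := by
  constructor
  · rintro ⟨M, hM, ⟨e⟩⟩
    exact ⟨_, Groth.L18.Ample.isInvertible_pullback φ hM,
      ⟨(Scheme.Modules.pullbackComp (φ ⁻¹ᵁ V).ι φ).app M ≪≫
        (Scheme.Modules.pullbackCongr (morphismRestrict_ι φ V).symm).app M ≪≫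
        ((Scheme.Modules.pullbackComp (φ ∣_ V) V.ι).app M).symm ≪≫
        (Scheme.Modules.pullback (φ ∣_ V)).mapIso e⟩⟩
  rintro ⟨M', hM', ⟨e'⟩⟩
  have hO := Groth.L07.RefExtend.supportedOn_structureModule hV
  have hO' := Groth.L07.RefExtend.supportedOn_structureModule (U := φ ⁻¹ᵁ V) fun x hx =>
    Groth.L20.SeeNormal.two_le_depth_of_base φ x (hV (φ x) hx)
  have hLf := Groth.L16.Existence.isFinLocFree_of_isInvertible hL
  haveI : Coh.IsQCoh L := Groth.L04.FinLocFreeHom.isQCoh_of_finLocFree hLf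
  let J := (Scheme.Modules.pushforward V.ι).obj L
  haveI : Coh.IsQCoh J := Groth.L16.QcqsPush.isQCoh_push L V.ι
  haveI := Groth.Agent.S11133.result V.ι φ (φ ∣_ V) (φ ⁻¹ᵁ V).ι (isPullback_morphismRestrict φ V) L
  obtain ⟨k⟩ : Nonempty ((Scheme.Modules.pullback φ).obj J ≅
      (Scheme.Modules.pushforward (φ ⁻¹ᵁ V).ι).obj ((Scheme.Modules.pullback (φ ∣_ V)).obj L)) :=
    ⟨@asIso _ _ _ _ _ (Groth.Agent.S11133.result V.ι φ (φ ∣_ V) (φ ⁻¹ᵁ V).ι (isPullback_morphismRestrict φ V) L)⟩
  obtain ⟨k'⟩ := (finLocFree_extends_iff hO' _).2 M' (Groth.L16.Existence.isFinLocFree_of_isInvertible hM')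
    ⟨(Scheme.Modules.restrictFunctorIsoPullback (φ ⁻¹ᵁ V).ι).app M' ≪≫ e'⟩
  have hinv : PicF.IsInvertible ((Scheme.Modules.pullback φ).obj J) :=
    Groth.L18.Ample.isInvertible_of_iso (k' ≪≫ k.symm) hM'
  have hJs : Groth.L21.Extend.SupportedOn J V := Groth.L21.Extend.supportedOn_pushforward le_rfl L
  have eJ : J.restrict V.ι ≅ L := (Scheme.Modules.restrictFunctorAdjCounitIso V.ι).app L
  have hLc : Coh.IsCoh L := Groth.L16.ProperFinite.isCoh_of_isInvertible hL
  have hrefV : ∀ x ∈ V, RefHull.IsReflexiveAt J x := fun x hx =>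
    (Groth.L07.RefExtend.isReflexiveAt_restrict_iff V.ι J ⟨x, hx⟩).1
      ((Groth.L07.RefExtend.isReflexiveAt_congr eJ.hom ⟨x, hx⟩
        (Groth.L07.RefExtend.stalkMapₗ_bijective_of_isIso _ _)).2 (by
          haveI := Groth.L18.LFP.free_stalk L hLf ⟨x, hx⟩
          haveI := Groth.L18.LFP.finite_stalk L (Groth.L18.LFP.isFP_of_isFinLocFree L hLf) ⟨x, hx⟩
          exact inferInstanceAs (Module.IsReflexive _ _)))
  have hJc : Coh.IsCoh J := Groth.L07.RefExtend.isCoh_push V J hJs
    (fun W _ => Groth.L07.RefExtend.supportedOn_structureModule fun y hy =>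
      (hV (W.ι y) hy).trans
        (Groth.L06.FlatFibre.depth_eq_of_ringEquiv (Groth.L07.RefExtend.stalkEquiv W.ι y)).ge)
    (Groth.L16.CohSupport.isCoh_of_iso eJ.symm hLc) hrefV
  have hJf := isFinLocFree_descend φ (Groth.L15.Ref.isFP_of_isCoh hJc)
    (Groth.L16.Existence.isFinLocFree_of_isInvertible hinv)
  exact ⟨J, Groth.L24.SB.isInvertible_of_pullback_invertible φ hJf hinv,
    ⟨((Scheme.Modules.restrictFunctorIsoPullback V.ι).app J).symm ≪≫ eJ⟩⟩

end Groth.Agent.BigOpen
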